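import Cfsg.Agent.H134.TD.Num

/-!
# Identification of `³D₄(q)`: equations without solutions (helper134, statement S3478)

`n = mm q`, `Par p q`.
* `split` : `n = u P + 1`, `u` a prime power prime to `P` : `u = q²`, `P = q² - 1`, or `q² ∣ P`;
* `ne_pow_add_one`, `ne_half` : `n ≠ u ^ m + 1`, `2 n ≠ w² + 1`;
* `Om.large` : the large members of `Om`;
* `dead_lin` : `d n (u - 1) + 1 = u ^ k`, `d a + 1 = u ^ (k - 1)`, `a ∈ Om`, `u ≥ 4` or `d = 1` : impossible (`PSL`);
* `dead_uni` : `d n (u + 1) = u ^ k + 1`, `d a + 1 = u ^ (k - 1)`, `a ∈ Om` : impossible (`PSU`);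
* `dead_plus`, `dead_minus` : the same with `d = 1` and `c a + 1 = u ^ (k - 1)`, `c ∣ u ∓ 1` (symplectic and orthogonal groups).
-/

set_option autoImplicit false

namespace Cfsg.Agent.H134.TD

open Cfsg.Agent.H135.TD

variable {p q : ℕ} (h : Par p q)

include h

theorem q_ge : 3 ≤ q := h.hq

theorem q_three_or : q = 3 ∨ 4 ≤ q := by
  have := h.hq
  omega

/-- **The equation `n = u P + 1`.** -/
theorem split {u P : ℕ} (hu : IsPrimePow u) (hco : Nat.Coprime u P) (h1 : mm q = u * P + 1) :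
    (u = q ^ 2 ∧ P = q ^ 2 - 1) ∨ q ^ 2 ∣ P := by
  obtain ⟨k, hk, hqk⟩ := h.hk
  have hp := h.prime
  have h2 : u * P = q ^ 2 * (q ^ 2 - 1) := by
    have := mm_eq h.hq
    omega
  have hq1 : 1 ≤ q ^ 2 := Nat.one_le_pow _ _ (by have := h.hq; omega)
  have hpq1 : ¬ p ∣ q ^ 2 - 1 := by
    intro h3
    have h4 : p ∣ q ^ 2 := dvd_pow h.p_dvd two_ne_zero
    have h5 : p ∣ 1 := by
      have := Nat.dvd_sub h4 h3
      rwa [Nat.sub_sub_self hq1] at this
    exact hp.one_lt.ne' (Nat.dvd_one.1 h5)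
  obtain ⟨r, f, hr, hf, rfl⟩ := hu
  have hr : r.Prime := Nat.prime_iff.2 hr
  by_cases hrp : r = p
  · left
    subst hrp
    have h3 : Nat.Coprime (q ^ 2) P := by
      rw [hqk, ← pow_mul]
      refine Nat.Coprime.pow_left _ ?_
      exact Nat.Coprime.coprime_dvd_left (dvd_pow_self r hf.ne') hco
    have h4 : q ^ 2 ∣ r ^ f := h3.dvd_of_dvd_mul_right (h2 ▸ Dvd.intro _ rfl)
    have h5 : r ^ f ∣ q ^ 2 := by
      have h6 : Nat.Coprime (r ^ f) (q ^ 2 - 1) := Nat.Coprime.pow_left _ ((Nat.Prime.coprime_iff_not_dvd hp).2 hpq1)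
      exact h6.dvd_of_dvd_mul_right (h2 ▸ Dvd.intro _ rfl)
    have h6 := Nat.dvd_antisymm h5 h4
    refine ⟨h6, ?_⟩
    rw [h6] at h2
    exact Nat.eq_of_mul_eq_mul_left (by omega) h2
  · right
    have h3 : Nat.Coprime (q ^ 2) (r ^ f) := by
      rw [hqk, ← pow_mul]
      exact Nat.Coprime.pow _ _ ((Nat.coprime_primes hp hr).2 (Ne.symm hrp))
    exact h3.dvd_of_dvd_mul_left (h2 ▸ Dvd.intro _ rfl)

theorem ne_pow_add_one {u m : ℕ} (hu : IsPrimePow u) (hm : m ≠ 0) : mm q ≠ u ^ m + 1 := by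
  intro h1
  have hq := h.hq
  rcases split h (u := u ^ m) (P := 1) (hu.pow hm) (Nat.coprime_one_right _) (by rw [mul_one]; exact h1) with
    ⟨-, h2⟩ | h2
  · have : 9 ≤ q ^ 2 := by nlinarith
    omega
  · have h3 := Nat.le_of_dvd one_pos h2
    have : 9 ≤ q ^ 2 := by nlinarith
    omega

/-- `2 n = w² + 1` is impossible. -/
theorem ne_half (w : ℕ) : 2 * mm q ≠ w ^ 2 + 1 := by
  intro h1
  have hq := h.hq
  have h2 := mm_add_sq hq
  set Q := q ^ 2 with hQ
  have h9 : 9 ≤ Q := by nlinarith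
  have h3 : w ^ 2 + 2 * Q = 2 * Q ^ 2 + 1 := by
    have : q ^ 4 = Q ^ 2 := by rw [hQ]; ring
    omega
  have h4 : Q < w := by
    by_contra hcon
    push Not at hcon
    have : w ^ 2 ≤ Q ^ 2 := Nat.pow_le_pow_left hcon 2
    nlinarith
  obtain ⟨v, rfl⟩ : ∃ v, w = Q + v := ⟨w - Q, by omega⟩
  -- `2 Q v + v² = (Q - 1)²`
  have h5 : 2 * Q * v + v ^ 2 + 2 * Q = Q ^ 2 + 1 := by nlinarith
  have hv0 : 0 < v := by omega
  have hv : 2 * v + 3 ≤ Q := by
    by_contra hcon
    push Not at hcon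
    nlinarith
  have h6 : Q ∣ (v - 1) * (v + 1) := by
    have h7 : (v - 1) * (v + 1) + 1 = v ^ 2 := by
      obtain ⟨t, rfl⟩ : ∃ t, v = t + 1 := ⟨v - 1, by omega⟩
      rw [Nat.add_sub_cancel]; ring
    have h8 : (v - 1) * (v + 1) + Q * (2 * v + 2) = Q * Q := by nlinarith
    have h10 : Q ∣ (v - 1) * (v + 1) + Q * (2 * v + 2) := by rw [h8]; exact Dvd.intro _ rfl
    exact (Nat.dvd_add_left (Dvd.intro _ rfl)).1 h10
  have hne1 : v ≠ 1 := by
    rintro rfl
    have : Q * 4 = Q * Q := by nlinarith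
    have := Nat.eq_of_mul_eq_mul_left (by omega) this
    omega
  obtain ⟨k, hk, hqk⟩ := h.hk
  rcases h.hp with rfl | rfl
  · -- `p = 2`
    have hk2 : 2 ≤ k := by
      by_contra hcon
      have : k = 1 := by omega
      subst this
      omega
    have hQ4 : Q = 4 * 4 ^ (k - 1) := by
      rw [hQ, hqk, ← pow_succ', Nat.sub_add_cancel hk, ← pow_mul, mul_comm, pow_mul]
      norm_num
    have h16 : 16 ≤ Q := by
      have : 4 ^ 1 ≤ 4 ^ (k - 1) := Nat.pow_le_pow_right (by norm_num) (by omega)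
      omega
    -- `v` is odd
    have hvodd : v % 2 = 1 := by
      by_contra hcon
      have hv2 : v % 2 = 0 := by omega
      have h7 : 2 ∣ (v - 1) * (v + 1) := Dvd.dvd.trans ⟨2 * 4 ^ (k - 1), by rw [hQ4]; ring⟩ h6
      rw [Nat.dvd_iff_mod_eq_zero, Nat.mul_mod, show (v - 1) % 2 = 1 by omega, show (v + 1) % 2 = 1 by omega] at h7
      norm_num at h7
    obtain ⟨t, rfl⟩ : ∃ t, v = 2 * t + 1 := ⟨v / 2, by omega⟩
    have h7 : 4 ^ (k - 1) ∣ t * (t + 1) := by
      have h8 : (2 * t + 1 - 1) * (2 * t + 1 + 1) = 4 * (t * (t + 1)) := by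
        rw [Nat.add_sub_cancel]; ring
      rw [h8, hQ4] at h6
      exact Nat.dvd_of_mul_dvd_mul_left (by norm_num) h6
    have h10 : 4 ^ (k - 1) ∣ t ∨ 4 ^ (k - 1) ∣ t + 1 := by
      rw [show (4 : ℕ) = 2 ^ 2 by norm_num, ← pow_mul] at h7 ⊢
      rcases Nat.even_or_odd t with he | ho
      · left
        have : Nat.Coprime (2 ^ (2 * (k - 1))) (t + 1) := Nat.Coprime.pow_left _ (Nat.coprime_two_left.2 he.add_one)
        exact this.dvd_of_dvd_mul_right h7
      · right
        have : Nat.Coprime (2 ^ (2 * (k - 1))) t := Nat.Coprime.pow_left _ (Nat.coprime_two_left.2 ho)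
        exact this.dvd_of_dvd_mul_left h7
    rcases h10 with h10 | h10
    · have := Nat.le_of_dvd (by omega) h10
      omega
    · have h11 := Nat.le_of_dvd (by omega) h10
      have h12 : t + 1 = 4 ^ (k - 1) := by
        obtain ⟨c, hc⟩ := h10
        have hc1 : c = 1 := by
          by_contra hcon
          have : c ≠ 0 := by rintro rfl; omega
          have : 2 ≤ c := by omega
          nlinarith
        rw [hc, hc1, mul_one]
      have h13 : Q = 4 * (t + 1) := by rw [h12, hQ4]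
      rw [h13] at h5
      nlinarith
  · -- `p = 3`
    have hQ9 : Q = 3 ^ (2 * k) := by rw [hQ, hqk, ← pow_mul, mul_comm]
    by_cases h3v : 3 ∣ v - 1
    · have hco : Nat.Coprime (3 ^ (2 * k)) (v + 1) := by
        refine Nat.Coprime.pow_left _ ((Nat.Prime.coprime_iff_not_dvd Nat.prime_three).2 ?_)
        omega
      have h7 := hco.dvd_of_dvd_mul_right (hQ9 ▸ h6)
      rw [← hQ9] at h7
      have := Nat.le_of_dvd (by omega) h7
      omega
    · have hco : Nat.Coprime (3 ^ (2 * k)) (v - 1) :=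
        Nat.Coprime.pow_left _ ((Nat.Prime.coprime_iff_not_dvd Nat.prime_three).2 h3v)
      have h7 := hco.dvd_of_dvd_mul_left (hQ9 ▸ h6)
      rw [← hQ9] at h7
      have := Nat.le_of_dvd (by omega) h7
      omega

/-- `n = v² + v + 1` : `v + 1 = q²`. -/
theorem eq_add {v : ℕ} (h1 : mm q = v ^ 2 + v + 1) : v + 1 = q ^ 2 := by
  have h2 := mm_add_sq h.hq
  have h3 : q ^ 4 = (q ^ 2) ^ 2 := by ring
  rcases lt_trichotomy (v + 1) (q ^ 2) with h4 | h4 | h4
  · exfalso
    nlinarith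
  · exact h4
  · exfalso
    have h5 : (q ^ 2) ^ 2 ≤ v ^ 2 := Nat.pow_le_pow_left (by omega) 2
    have h6 := h.hq
    nlinarith

/-- `n = v² - v + 1` : `v = q²`. -/
theorem eq_sub {v : ℕ} (h1 : mm q + v = v ^ 2 + 1) (hv : 1 ≤ v) : v = q ^ 2 := by
  obtain ⟨t, rfl⟩ : ∃ t, v = t + 1 := ⟨v - 1, by omega⟩
  exact eq_add h (by nlinarith)

/-- `3 n = v² + v + 1` is impossible. -/
theorem ne_three (v : ℕ) : 3 * mm q ≠ v ^ 2 + v + 1 := by
  intro h1
  have hq := h.hq
  have h2 := mm_eq hq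
  have h9 : 9 ≤ q ^ 2 := by nlinarith
  -- `v = 3 w + 1`
  have hv : v % 3 = 1 := by
    have h3 : (v ^ 2 + v + 1) % 3 = 0 := by omega
    have h4 : v ^ 2 % 3 = ((v % 3) ^ 2) % 3 := by rw [Nat.pow_mod]
    have h5 : v % 3 < 3 := Nat.mod_lt _ (by norm_num)
    interval_cases hv3 : v % 3 <;> omega
  obtain ⟨w, rfl⟩ : ∃ w, v = 3 * w + 1 := ⟨v / 3, by omega⟩
  have h3 : 3 * (w * (w + 1)) = q ^ 2 * (q ^ 2 - 1) := by nlinarith
  obtain ⟨k, hk, hqk⟩ := h.hk
  rcases h.hp with rfl | rfl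
  · -- `p = 2`
    have h4 : q ^ 2 ∣ w * (w + 1) := by
      have hco : Nat.Coprime (q ^ 2) 3 := by
        rw [hqk, ← pow_mul]
        exact Nat.Coprime.pow_left _ (by norm_num)
      exact hco.dvd_of_dvd_mul_left (h3 ▸ Dvd.intro _ rfl)
    have h5 : q ^ 2 ≤ w + 1 := by
      rw [hqk, ← pow_mul] at h4 ⊢
      have hw0 : 0 < w := by
        by_contra hcon
        have : w = 0 := by omega
        subst this
        have : 0 < q ^ 2 * (q ^ 2 - 1) := Nat.mul_pos (by omega) (by omega)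
        omega
      rcases Nat.even_or_odd w with he | ho
      · have : Nat.Coprime (2 ^ (k * 2)) (w + 1) := Nat.Coprime.pow_left _ (Nat.coprime_two_left.2 he.add_one)
        exact (Nat.le_of_dvd hw0 (this.dvd_of_dvd_mul_right h4)).trans (Nat.le_succ _)
      · have : Nat.Coprime (2 ^ (k * 2)) w := Nat.Coprime.pow_left _ (Nat.coprime_two_left.2 ho)
        exact Nat.le_of_dvd (by omega) (this.dvd_of_dvd_mul_left h4)
    obtain ⟨Q, hQ⟩ : ∃ Q, q ^ 2 = Q + 1 := ⟨q ^ 2 - 1, by omega⟩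
    rw [hQ, Nat.add_sub_cancel] at h3
    rw [hQ] at h5 h9
    nlinarith
  · -- `p = 3`
    obtain ⟨c, hc⟩ : ∃ c, q ^ 2 = 3 * c := by
      refine ⟨3 * 9 ^ (k - 1), ?_⟩
      rw [hqk, ← pow_mul, mul_comm k 2, pow_mul]
      norm_num
      rw [← mul_assoc, show 3 * 3 = 9 by norm_num, ← pow_succ', Nat.sub_add_cancel hk]
    have hc3 : c = 3 ^ (2 * k - 1) := by
      have h5 : 3 * c = 3 * 3 ^ (2 * k - 1) := by
        rw [← hc, hqk, ← pow_succ', Nat.sub_add_cancel (by omega), ← pow_mul, mul_comm]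
      omega
    have h4 : w * (w + 1) = c * (q ^ 2 - 1) := by
      have h5 : 3 * (w * (w + 1)) = 3 * (c * (q ^ 2 - 1)) := by
        rw [h3]
        nth_rw 1 [hc]
        ring
      omega
    have h4d : c ∣ w * (w + 1) := h4 ▸ Dvd.intro _ rfl
    have hcd : c ∣ w ∨ c ∣ w + 1 := by
      rw [hc3] at h4d ⊢
      by_cases h3w : 3 ∣ w
      · left
        have : Nat.Coprime (3 ^ (2 * k - 1)) (w + 1) :=
          Nat.Coprime.pow_left _ ((Nat.Prime.coprime_iff_not_dvd Nat.prime_three).2 (by omega))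
        exact this.dvd_of_dvd_mul_right h4d
      · right
        have : Nat.Coprime (3 ^ (2 * k - 1)) w :=
          Nat.Coprime.pow_left _ ((Nat.Prime.coprime_iff_not_dvd Nat.prime_three).2 h3w)
        exact this.dvd_of_dvd_mul_left h4d
    rw [hc] at h4
    have hc3' : 3 ≤ c := by omega
    obtain ⟨C, hC⟩ : ∃ C, 3 * c = C + 1 := ⟨3 * c - 1, by omega⟩
    rw [hC, Nat.add_sub_cancel] at h4
    rcases hcd with ⟨e, he⟩ | ⟨e, he⟩
    · rcases Nat.lt_or_ge e 2 with h6 | h6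
      · interval_cases e
        · subst he; nlinarith
        · rw [mul_one] at he; subst he; nlinarith
      · nlinarith [Nat.mul_le_mul_left c h6]
    · rcases Nat.lt_or_ge e 2 with h6 | h6
      · interval_cases e
        · omega
        · have : w + 1 = c := by omega
          nlinarith
      · nlinarith [Nat.mul_le_mul_left c h6]

/-- **The large members of `Om`.** -/
theorem Om.large {a : ℕ} (ho : Om p q a) (h7 : 5 * mm q ≤ 7 * a) :
    a = mm q ∨ a = (q ^ 3 - 1) * (q + 1) ∨ a = (q ^ 3 + 1) * (q - 1) ∨ (q = 3 ∧ (a = 84 ∨ a = 78)) := by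
  have hq := h.hq
  obtain ⟨b, rfl⟩ : ∃ b, q = b + 3 := ⟨q - 3, by omega⟩
  have hn : mm (b + 3) = (b + 3) ^ 4 - (b + 3) ^ 2 + 1 := rfl
  have h2 := mm_add_sq hq
  have e1 : (b + 3) ^ 3 - 1 = b ^ 3 + 9 * b ^ 2 + 27 * b + 26 := by
    have : (b + 3) ^ 3 = b ^ 3 + 9 * b ^ 2 + 27 * b + 27 := by ring
    omega
  have e2 : (b + 3) ^ 3 + 1 = b ^ 3 + 9 * b ^ 2 + 27 * b + 28 := by ring
  have e3 : b + 3 - 1 = b + 2 := by omega
  have e4 : (b + 3) ^ 2 - (b + 3) + 1 = b ^ 2 + 5 * b + 7 := by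
    have : (b + 3) ^ 2 = b ^ 2 + 6 * b + 9 := by ring
    omega
  have e5 : mm (b + 3) = b ^ 4 + 12 * b ^ 3 + 53 * b ^ 2 + 102 * b + 73 := by
    have h3 : (b + 3) ^ 4 = b ^ 4 + 12 * b ^ 3 + 54 * b ^ 2 + 108 * b + 81 := by ring
    have h4 : (b + 3) ^ 2 = b ^ 2 + 6 * b + 9 := by ring
    omega
  have ha0 : 0 < a := by omega
  -- a divisor `a` of `x < 2 a` is `x`
  have key : ∀ x : ℕ, 0 < x → a ∣ x → x < 2 * a → a = x := by
    rintro x hx ⟨c, rfl⟩ h5
    have hc1 : c = 1 := by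
      have h6 : c ≠ 0 := by rintro rfl; omega
      by_contra hcon
      have : 2 ≤ c := by omega
      nlinarith
    rw [hc1, mul_one]
  rcases ho with h5 | h5 | h5 | ⟨rfl, h5⟩ | ⟨rfl, h5⟩
  · exact Or.inl (key _ (by omega) h5 (by omega))
  · right; left
    refine key _ (by rw [e1]; positivity) h5 ?_
    rw [e1]
    nlinarith [sq_nonneg b, pow_pos (show 0 < b + 1 by omega) 3, pow_pos (show 0 < b + 1 by omega) 4,
      Nat.zero_le (b ^ 4), Nat.zero_le (b ^ 3)]
  · right; right; left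
    refine key _ (by rw [e3]; positivity) h5 ?_
    rw [e2, e3]
    nlinarith [sq_nonneg b, Nat.zero_le (b ^ 4), Nat.zero_le (b ^ 3)]
  · exfalso
    obtain ⟨-, h4, h4'⟩ := h.cases.resolve_right (by omega)
    have hb : 1 ≤ b := by omega
    rcases h5 with h5 | h5 | h5 | h5 | h5
    · have := Nat.le_of_dvd (by norm_num) h5
      nlinarith
    · have := Nat.le_of_dvd (by positivity) h5
      nlinarith [Nat.zero_le (b ^ 4), Nat.zero_le (b ^ 3)]
    · rw [e4] at h5
      have := Nat.le_of_dvd (by positivity) h5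
      nlinarith [Nat.zero_le (b ^ 4), Nat.zero_le (b ^ 3)]
    · rw [e1] at h5
      have := Nat.le_of_dvd (by positivity) h5
      nlinarith [Nat.zero_le (b ^ 4), Nat.zero_le (b ^ 3)]
    · rw [e2] at h5
      have := Nat.le_of_dvd (by positivity) h5
      nlinarith [Nat.zero_le (b ^ 4), Nat.zero_le (b ^ 3)]
  · obtain ⟨-, h3, h3'⟩ := h.cases.resolve_left (by omega)
    by_cases hb : b = 0
    · subst hb
      right; right; right
      refine ⟨rfl, ?_⟩
      have h8 : 73 ≤ mm (0 + 3) := by rw [e5]; norm_num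
      rcases h5 with h5 | h5 | h5
      · have := Nat.le_of_dvd (by norm_num) h5
        omega
      · right
        rw [e1] at h5
        exact key _ (by norm_num) (by simpa using h5) (by omega)
      · left
        rw [e2] at h5
        exact key _ (by norm_num) (by simpa using h5) (by omega)
    · exfalso
      have hb3 : 3 ≤ b := by omega
      -- `q ≥ 9`
      have hb6 : 6 ≤ b := by
        obtain ⟨k, hk, hqk⟩ := h.hk
        have hk2 : 2 ≤ k := by
          by_contra hcon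
          have : k = 1 := by omega
          subst this
          omega
        have : 3 ^ 2 ≤ 3 ^ k := Nat.pow_le_pow_right (by norm_num) hk2
        omega
      rcases h5 with h5 | h5 | h5
      · have := Nat.le_of_dvd (by norm_num) h5
        nlinarith
      · rw [e1] at h5
        have := Nat.le_of_dvd (by positivity) h5
        have h8 : 6 * b ^ 3 ≤ b ^ 4 := by
          have : b ^ 4 = b * b ^ 3 := by ring
          rw [this]
          exact Nat.mul_le_mul_right _ hb6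
        nlinarith [Nat.zero_le (b ^ 4), Nat.zero_le (b ^ 3)]
      · rw [e2] at h5
        have := Nat.le_of_dvd (by positivity) h5
        have h8 : 6 * b ^ 3 ≤ b ^ 4 := by
          have : b ^ 4 = b * b ^ 3 := by ring
          rw [this]
          exact Nat.mul_le_mul_right _ hb6
        nlinarith [Nat.zero_le (b ^ 4), Nat.zero_le (b ^ 3)]

end Cfsg.Agent.H134.TD
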