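import Cfsg.Agent.H134.TD.Psl2
import Cfsg.Agent.H134.TD.Alt
import Cfsg.Agent.H134.TD.Spor
import Cfsg.Agent.TypeD4Two.FieldIso
import Cfsg.Agent.H269.TDRow.Psp
import Cfsg.Agent.H488.TDRow.E6
import Cfsg.Agent.H488.TDRow.TE6
import Cfsg.Agent.H488.TDRow.SzRee
import Cfsg.Agent.H458.TDRow.Lin
import Cfsg.Agent.H458.TDRow.Cl
import Cfsg.Agent.H156.TDRow.Orth
import Cfsg.Agent.H528.TDRow.E78
import Cfsg.Prelude.Def_Classification2

/-!
# Identification of `³D₄(q)`: assembly (helper134, statement S3478)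

`ident_of` : from the rows; `ident`: the identification.
-/

set_option autoImplicit false
set_option linter.unusedSectionVars false

namespace Cfsg.Agent.H134.TD

open Cfsg Cfsg.Lie Cfsg.Agent.H135.TD

universe u v

variable {p q : ℕ}

/-- the remaining row -/
def RowF (p q : ℕ) : Prop :=
  ∀ (K : Type) [Field K] [Fintype K] (m : ℕ), 1 ≤ m → Fintype.card K = 2 ^ (2 * m + 1) →
    Sit p q (twistedF4 K (2 ^ m)) → False

/-- **The identification from the rows.** -/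
theorem ident_of (R : RowF p q) {S : Type u} [Group S] [Finite S] (hna : ¬ IsMulCommutative S) (hk : IsKnownSimple' S)
    (h : Sit p q S) {K : Type v} [Field K] [Fintype K] (hK : Fintype.card K = q ^ 3) :
    Nonempty (S ≃* twistedD4 K q) := by
  rcases hk with hk | hk | hk | hk | hk | hk | hk | hk | hk | hk
  · exfalso
    have f : Fact (Nat.card S).Prime := ⟨hk⟩
    have hc : IsCyclic S := isCyclic_of_prime_card (p := Nat.card S) rfl
    exact hna ⟨⟨fun a b => (IsCyclic.commGroup (α := S)).mul_comm a b⟩⟩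
  · obtain ⟨m, -, ⟨e⟩⟩ := hk
    exact (row_alt (h.congr e)).elim
  · obtain ⟨F, _, _, m, hm, h4, ⟨e⟩⟩ := hk
    rcases Nat.lt_or_ge m 3 with h3 | h3
    · obtain rfl : m = 2 := by omega
      exact (row_psl2 (h4 rfl) (h.congr e)).elim
    · exact (H458.TDRow.row_psl h3 (h.congr e)).elim
  · obtain ⟨F, _, _, m, hm, h4, ⟨e⟩⟩ := hk
    exact (H269.TDRow.Psp.row_psp hm h4 (h.congr e)).elim
  · obtain ⟨F, _, _, m, w, hF, hm, h4, ⟨e⟩⟩ := hk
    exact (H458.TDRow.row_psu hF hm h4 (h.congr e)).elim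
  · obtain ⟨F, _, _, m, hm, h4, ⟨e⟩⟩ := hk
    exact (H458.TDRow.row_omega_odd hm h4 (h.congr e)).elim
  · obtain ⟨F, _, _, m, hm, ⟨e⟩⟩ := hk
    exact (H156.TDRow.row_omega_plus hm (h.congr e)).elim
  · obtain ⟨F, _, _, m, a, b, hm, hab, ⟨e⟩⟩ := hk
    exact (H156.TDRow.row_omega_minus hm hab (h.congr e)).elim
  · rcases hk with hk | hk | hk | hk | hk | hk | hk | hk | hk | hk | hk
    · obtain ⟨F, _, _, -, ⟨e⟩⟩ := hk
      exact (row_G2 (h.congr e)).elim
    · obtain ⟨F, _, _, ⟨e⟩⟩ := hk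
      exact (row_F4 (h.congr e)).elim
    · obtain ⟨F, _, _, ⟨e⟩⟩ := hk
      exact (H488.TDRow.row_E6 (h.congr e)).elim
    · obtain ⟨F, _, _, ⟨e⟩⟩ := hk
      exact (H528.TDRow.E78.row_E7 (h.congr e)).elim
    · obtain ⟨F, _, _, ⟨e⟩⟩ := hk
      exact (H528.TDRow.E78.row_E8 (h.congr e)).elim
    · obtain ⟨L, _, _, w, hw, hL, ⟨e⟩⟩ := hk
      exact (H488.TDRow.row_2E6 hw hL (h.congr e)).elim
    · obtain ⟨L, _, _, w, hw, hL, ⟨e⟩⟩ := hk
      obtain rfl := row_3D4 hw hL (h.congr e)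
      obtain ⟨e'⟩ := TypeD4Two.FieldIso.twistedD4_congr (F := L) (K := K) (by rw [hL, hK]) w
      exact ⟨e.trans e'⟩
    · obtain ⟨F, _, _, m, hm, hF, ⟨e⟩⟩ := hk
      exact (H488.TDRow.row_sz hm hF (h.congr e)).elim
    · obtain ⟨F, _, _, m, hm, hF, ⟨e⟩⟩ := hk
      exact (H488.TDRow.row_ree hm hF (h.congr e)).elim
    · obtain ⟨F, _, _, m, hm, hF, ⟨e⟩⟩ := hk
      exact (R F m hm hF (h.congr e)).elim
    · exact (row_tits h hk).elim
  · exact (row_spor h hk).elim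

end Cfsg.Agent.H134.TD
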