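import Cfsg.Agent.H134.TD.Ident
import Cfsg.Agent.H368.TDRow.TwF4Row

/-!
# Identification of `³D₄(q)` (helper134, statement S3478)
-/

set_option autoImplicit false

namespace Cfsg.Agent.H134.TD

open Cfsg Cfsg.Lie Cfsg.Agent.H135.TD

universe u v

/-- **The identification.** -/
theorem ident {p q : ℕ} {S : Type u} [Group S] [Finite S] (hna : ¬ IsMulCommutative S) (hk : IsKnownSimple' S)
    (h : Sit p q S) {K : Type v} [Field K] [Fintype K] (hK : Fintype.card K = q ^ 3) :
    Nonempty (S ≃* twistedD4 K q) :=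
  ident_of (fun _ _ _ _ hm hF h => H368.TDRow.row_2F4 hm hF h) hna hk h hK

end Cfsg.Agent.H134.TD
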