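import Cfsg.Agent.H135.TD.Spec

/-!
# Identification of `³D₄(q)`: number theory (helper134, statement S3478)

`mm q = q⁴ - q² + 1`, `Par p q` : `q = p ^ k > 2`, `p = 2` or `3`.  `Q = q²`, `mm q - 1 = Q (Q - 1)`.
* `mm_eq`, `mm_mod`, `mm_ge`, `prime_mm` (prime divisors are `≡ 1 mod 12`), `coprime_mm`;
* `Om.dvd_mm` : if a prime divisor of `mm q` divides an element of `Om`, this element divides `mm q`;
* `Om.dvd_of_coprime`, `Om.le`, `Om.near` (large members of `Om`);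
* equations without solutions: `ne_pow_add_one`, `ne_half`, `ne_three`, `ne_five_plus`, `ne_five_minus`, ...
-/

set_option autoImplicit false

namespace Cfsg.Agent.H134.TD

open Cfsg.Agent.H135.TD

variable {p q : ℕ}

theorem mm_eq (hq : 2 < q) : mm q = q ^ 2 * (q ^ 2 - 1) + 1 := by
  unfold mm
  have h1 : 1 ≤ q ^ 2 := Nat.one_le_pow _ _ (by omega)
  rw [Nat.mul_sub, mul_one]
  congr 2
  ring

/-- `mm q = Q (Q - 1) + 1` in the form `mm q + Q = Q² + 1` -/
theorem mm_add_sq (hq : 2 < q) : mm q + q ^ 2 = q ^ 4 + 1 := by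
  unfold mm
  have h1 : q ^ 2 ≤ q ^ 4 := Nat.pow_le_pow_right (by omega) (by norm_num)
  omega

theorem mm_cast (hq : 2 < q) : ((mm q : ℕ) : ℤ) = (q : ℤ) ^ 4 - (q : ℤ) ^ 2 + 1 := by
  have h1 := mm_add_sq hq
  have h2 : ((mm q + q ^ 2 : ℕ) : ℤ) = ((q ^ 4 + 1 : ℕ) : ℤ) := by rw [h1]
  push_cast at h2
  linarith

section par

variable (h : Par p q)

include h

theorem mm_ge : 73 ≤ mm q := by
  have h1 := mm_add_sq h.hq
  have h2 := h.hq
  have h3 : 9 ≤ q ^ 2 := by nlinarith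
  have h4 : q ^ 4 = q ^ 2 * q ^ 2 := by ring
  nlinarith

theorem mm_mod : mm q % 12 = 1 := by
  have h1 := mm_add_sq h.hq
  have h2 : q % 12 < 12 := Nat.mod_lt _ (by norm_num)
  have h3 : (mm q + q ^ 2) % 12 = (q ^ 4 + 1) % 12 := by rw [h1]
  have h4 : q ^ 2 % 12 = ((q % 12) ^ 2) % 12 := by rw [Nat.pow_mod]
  have h5 : q ^ 4 % 12 = ((q % 12) ^ 4) % 12 := by rw [Nat.pow_mod]
  generalize q % 12 = r at *
  interval_cases r <;> omega

theorem mm_odd : Odd (mm q) := by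
  have h1 := mm_mod h
  rw [Nat.odd_iff]
  omega

/-- prime divisors of `mm q` -/
theorem prime_mm {s : ℕ} (hs : s.Prime) (hd : s ∣ mm q) : s % 12 = 1 := by
  have h2 : s ≠ 2 := by
    rintro rfl
    have := (Nat.odd_iff.1 (mm_odd h))
    omega
  have h3 : s ≠ 3 := by
    rintro rfl
    have := mm_mod h
    omega
  have := Fact.mk hs
  have hz : ((q : ZMod s)) ^ 4 - (q : ZMod s) ^ 2 + 1 = 0 := by
    have h4 : ((mm q : ℕ) : ZMod s) = 0 := (ZMod.natCast_eq_zero_iff _ _).2 hd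
    have h5 : ((mm q + q ^ 2 : ℕ) : ZMod s) = ((q ^ 4 + 1 : ℕ) : ZMod s) := by rw [mm_add_sq h.hq]
    push_cast at h5
    rw [h4, zero_add] at h5
    rw [h5]
    ring
  set a : ZMod s := (q : ZMod s)
  have ha0 : a ≠ 0 := by
    intro h0
    rw [h0] at hz
    simp at hz
  have h6 : a ^ 6 = -1 := by
    have : a ^ 6 + 1 = (a ^ 2 + 1) * (a ^ 4 - a ^ 2 + 1) := by ring
    rw [hz, mul_zero] at this
    exact eq_neg_of_add_eq_zero_left this
  have h2' : (2 : ZMod s) ≠ 0 := by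
    intro h0
    have : ((2 : ℕ) : ZMod s) = 0 := by exact_mod_cast h0
    rw [ZMod.natCast_eq_zero_iff] at this
    exact h2 ((Nat.prime_dvd_prime_iff_eq hs Nat.prime_two).1 this)
  have h3' : (3 : ZMod s) ≠ 0 := by
    intro h0
    have : ((3 : ℕ) : ZMod s) = 0 := by exact_mod_cast h0
    rw [ZMod.natCast_eq_zero_iff] at this
    exact h3 ((Nat.prime_dvd_prime_iff_eq hs Nat.prime_three).1 this)
  have h12 : a ^ 12 = 1 := by
    have : a ^ 12 = (a ^ 6) ^ 2 := by ring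
    rw [this, h6]
    ring
  have hord : orderOf a = 12 := by
    refine orderOf_eq_of_pow_and_pow_div_prime (by norm_num) h12 ?_
    intro r hr hrd
    have : r ∣ 2 ^ 2 * 3 := by simpa using hrd
    rcases hr.dvd_mul.1 this with h7 | h7
    · have h8 := (Nat.prime_dvd_prime_iff_eq hr Nat.prime_two).1 (hr.dvd_of_dvd_pow h7)
      subst h8
      show a ^ 6 ≠ 1
      rw [h6]
      intro h9
      apply h2'
      linear_combination -h9
    · have h8 := (Nat.prime_dvd_prime_iff_eq hr Nat.prime_three).1 h7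
      subst h8
      show a ^ 4 ≠ 1
      intro h9
      -- `a⁴ = 1` and `a⁴ - a² + 1 = 0` give `a² = 2`, `4 = 1`
      have h10 : a ^ 2 = 2 := by linear_combination h9 - hz
      apply h3'
      have : a ^ 4 = (a ^ 2) ^ 2 := by ring
      rw [this, h10] at h9
      linear_combination h9
  have h7 : orderOf a ∣ s - 1 := ZMod.orderOf_dvd_card_sub_one ha0
  rw [hord] at h7
  have := hs.two_le
  omega

theorem prime_mm_ge {s : ℕ} (hs : s.Prime) (hd : s ∣ mm q) : 13 ≤ s := by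
  have h1 := prime_mm h hs hd
  have := hs.two_le
  omega

/-- a prime divisor of `mm q` does not divide `q⁶ - 1` -/
theorem not_dvd_six {s : ℕ} (hs : s.Prime) (hd : s ∣ mm q) : ¬ s ∣ q ^ 6 - 1 := by
  intro h1
  have h2 := h.hq
  have h3 : 1 ≤ q ^ 6 := Nat.one_le_pow _ _ (by omega)
  have h4 : (q ^ 6 - 1) + 2 = (q ^ 2 + 1) * mm q := by
    have h5 := mm_cast h2
    zify [h3]
    rw [h5]
    ring
  have h5 : s ∣ 2 := by
    have h6 : s ∣ (q ^ 6 - 1) + 2 := h4 ▸ Dvd.dvd.mul_left hd _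
    exact (Nat.dvd_add_right h1).1 h6
  have := Nat.le_of_dvd (by norm_num) h5
  have := prime_mm_ge h hs hd
  omega

theorem not_dvd_q {s : ℕ} (hs : s.Prime) (hd : s ∣ mm q) : ¬ s ∣ q := by
  intro h1
  have h2 := mm_add_sq h.hq
  have h3 : s ∣ 1 := by
    have h4 : s ∣ q ^ 4 + 1 := by
      rw [← h2]
      exact dvd_add hd (dvd_pow h1 two_ne_zero)
    exact (Nat.dvd_add_right (dvd_pow h1 (by norm_num))).1 h4
  exact hs.one_lt.ne' (Nat.dvd_one.1 h3)

/-! ### the members of `Om` -/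

/-- `Q = q²` divides no member of `Om` except divisors of 9 -/
theorem Om.sq {m : ℕ} (ho : Om p q m) (hd : q ^ 2 ∣ m) : m ∣ 9 := by
  have hq := h.hq
  have hmo := mm_odd h
  have hm3 := mm_mod h
  have h1q : 1 ≤ q ^ 3 := Nat.one_le_pow _ _ (by omega)
  rcases h.cases with ⟨rfl, h4, h4'⟩ | ⟨rfl, h3, h3'⟩
  · exfalso
    have h16 : 16 ∣ m := by
      obtain ⟨c, hc⟩ := h4
      exact Dvd.dvd.trans ⟨c ^ 2, by rw [hc]; ring⟩ hd
    have e1 : q ^ 3 % 2 = 0 := by
      obtain ⟨c, hc⟩ := h4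
      rw [hc]
      have : (4 * c) ^ 3 = 2 * (32 * c ^ 3) := by ring
      omega
    have e2 : q ^ 2 % 2 = 0 := by
      obtain ⟨c, hc⟩ := h4
      rw [hc]
      have : (4 * c) ^ 2 = 2 * (8 * c ^ 2) := by ring
      omega
    have e3 : q % 2 = 0 := by omega
    have hle : q ≤ q ^ 2 := Nat.le_self_pow two_ne_zero q
    have odd2 : ∀ x : ℕ, x % 2 = 1 → ∀ c : ℕ, c ∣ 8 → m ∣ c * x → False := by
      intro x hx c hc hmx
      have h5 : 16 ∣ 8 * x := by
        obtain ⟨e, he⟩ := hc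
        exact (h16.trans hmx).trans ⟨e, by rw [he]; ring⟩
      omega
    rcases ho with h5 | h5 | h5 | ⟨-, h5 | h5 | h5 | h5 | h5⟩ | ⟨h6, -⟩
    · exact odd2 (mm q) (Nat.odd_iff.1 hmo) 1 (by norm_num) (by rwa [one_mul])
    · refine odd2 ((q ^ 3 - 1) * (q + 1)) ?_ 1 (by norm_num) (by rwa [one_mul])
      rw [Nat.mul_mod, show (q ^ 3 - 1) % 2 = 1 by omega, show (q + 1) % 2 = 1 by omega]
    · refine odd2 ((q ^ 3 + 1) * (q - 1)) ?_ 1 (by norm_num) (by rwa [one_mul])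
      rw [Nat.mul_mod, show (q ^ 3 + 1) % 2 = 1 by omega, show (q - 1) % 2 = 1 by omega]
    · have := Nat.le_of_dvd (by norm_num) (h16.trans h5)
      omega
    · exact odd2 (q ^ 2 + q + 1) (by omega) 4 (by norm_num) h5
    · exact odd2 (q ^ 2 - q + 1) (by omega) 4 (by norm_num) h5
    · exact odd2 (q ^ 3 - 1) (by omega) 2 (by norm_num) h5
    · exact odd2 (q ^ 3 + 1) (by omega) 2 (by norm_num) h5
    · omega
  · have h9 : 9 ∣ m := by
      obtain ⟨c, hc⟩ := h3
      exact Dvd.dvd.trans ⟨c ^ 2, by rw [hc]; ring⟩ hd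
    have e1 : q ^ 3 % 3 = 0 := by
      obtain ⟨c, hc⟩ := h3
      rw [hc]
      have : (3 * c) ^ 3 = 3 * (9 * c ^ 3) := by ring
      omega
    have e3 : q % 3 = 0 := by omega
    have odd3 : ∀ x : ℕ, x % 3 ≠ 0 → ∀ c : ℕ, c ∣ 3 → m ∣ c * x → False := by
      intro x hx c hc hmx
      have h5 : 9 ∣ 3 * x := by
        obtain ⟨e, he⟩ := hc
        exact (h9.trans hmx).trans ⟨e, by rw [he]; ring⟩
      omega
    rcases ho with h5 | h5 | h5 | ⟨h6, -⟩ | ⟨-, h5 | h5 | h5⟩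
    · exact (odd3 (mm q) (by omega) 1 (by norm_num) (by rwa [one_mul])).elim
    · refine (odd3 ((q ^ 3 - 1) * (q + 1)) ?_ 1 (by norm_num) (by rwa [one_mul])).elim
      rw [Nat.mul_mod, show (q ^ 3 - 1) % 3 = 2 by omega, show (q + 1) % 3 = 1 by omega]
      norm_num
    · refine (odd3 ((q ^ 3 + 1) * (q - 1)) ?_ 1 (by norm_num) (by rwa [one_mul])).elim
      rw [Nat.mul_mod, show (q ^ 3 + 1) % 3 = 1 by omega, show (q - 1) % 3 = 2 by omega]
      norm_num
    · omega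
    · exact h5
    · exact (odd3 (q ^ 3 - 1) (by omega) 3 (by norm_num) h5).elim
    · exact (odd3 (q ^ 3 + 1) (by omega) 3 (by norm_num) h5).elim

/-- the members of `Om` which are not divisible by a prime divisor of `mm q` -/
theorem Om.mm_or {m : ℕ} (ho : Om p q m) : m ∣ mm q ∨ m ∣ 72 * (q * (q ^ 6 - 1)) := by
  have hq := h.hq
  have h1q : 1 ≤ q ^ 3 := Nat.one_le_pow _ _ (by omega)
  have h1q' : 1 ≤ q := by omega
  have hle : q ≤ q ^ 2 := Nat.le_self_pow two_ne_zero q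
  have e6 : q ^ 6 - 1 = (q ^ 3 - 1) * (q ^ 3 + 1) := by
    have := Nat.sq_sub_sq (q ^ 3) 1
    rw [one_pow, ← pow_mul] at this
    rw [this, mul_comm]
  have e1 : (q ^ 3 + 1) = (q + 1) * (q ^ 2 - q + 1) := by
    zify [hle]
    ring
  have e2 : (q ^ 3 - 1) = (q - 1) * (q ^ 2 + q + 1) := by
    zify [h1q, h1q']
    ring
  have key : ∀ x c : ℕ, x ∣ q ^ 6 - 1 → c ∣ 72 → m ∣ c * x → m ∣ 72 * (q * (q ^ 6 - 1)) := fun x c hx hc hm =>
    (hm.trans (mul_dvd_mul hc hx)).trans (mul_dvd_mul_left _ (Dvd.intro_left _ rfl))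
  rcases ho with h5 | h5 | h5 | ⟨-, h5 | h5 | h5 | h5 | h5⟩ | ⟨-, h5 | h5 | h5⟩
  · exact Or.inl h5
  · exact Or.inr (key ((q ^ 3 - 1) * (q + 1)) 1 (by rw [e6, e1]; exact mul_dvd_mul_left _ (Dvd.intro _ rfl))
      (by norm_num) (by rwa [one_mul]))
  · exact Or.inr (key ((q ^ 3 + 1) * (q - 1)) 1 (by
      rw [e6, e2, mul_comm]; exact mul_dvd_mul (Dvd.intro _ rfl) dvd_rfl) (by norm_num) (by rwa [one_mul]))
  · exact Or.inr (h5.trans (Dvd.dvd.mul_right (by norm_num) _))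
  · exact Or.inr (key _ 4 (by rw [e6, e2]; exact Dvd.dvd.mul_right (Dvd.intro_left _ rfl) _) (by norm_num) h5)
  · exact Or.inr (key _ 4 (by rw [e6, e1]; exact Dvd.dvd.mul_left (Dvd.intro_left _ rfl) _) (by norm_num) h5)
  · exact Or.inr (key _ 2 (by rw [e6]; exact Dvd.intro _ rfl) (by norm_num) h5)
  · exact Or.inr (key _ 2 (by rw [e6]; exact Dvd.intro_left _ rfl) (by norm_num) h5)
  · exact Or.inr (h5.trans (Dvd.dvd.mul_right (by norm_num) _))
  · exact Or.inr (key _ 3 (by rw [e6]; exact Dvd.intro _ rfl) (by norm_num) h5)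
  · exact Or.inr (key _ 3 (by rw [e6]; exact Dvd.intro_left _ rfl) (by norm_num) h5)

/-- **A member of `Om` divisible by a prime divisor of `mm q` divides `mm q`.** -/
theorem Om.dvd_mm {m s : ℕ} (ho : Om p q m) (hs : s.Prime) (hsm : s ∣ m) (hsq : s ∣ mm q) : m ∣ mm q := by
  rcases Om.mm_or h ho with h1 | h1
  · exact h1
  · exfalso
    have h2 := hsm.trans h1
    have h3 := prime_mm_ge h hs hsq
    rcases hs.dvd_mul.1 h2 with h4 | h4
    · rw [show 72 = 2 ^ 3 * 3 ^ 2 by norm_num] at h4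
      rcases hs.dvd_mul.1 h4 with h5 | h5
      · have := Nat.le_of_dvd (by norm_num) (hs.dvd_of_dvd_pow h5)
        omega
      · have := Nat.le_of_dvd (by norm_num) (hs.dvd_of_dvd_pow h5)
        omega
    · rcases hs.dvd_mul.1 h4 with h5 | h5
      · exact not_dvd_q h hs hsq h5
      · exact not_dvd_six h hs hsq h5

/-- primes in `Om` -/
theorem Om.prime {t : ℕ} (ht : t.Prime) (ho : Om p q t) : t ∣ mm q ∨ t ∣ q ∨ t ∣ q ^ 6 - 1 := by
  rcases Om.mm_or h ho with h1 | h1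
  · exact Or.inl h1
  · right
    rcases ht.dvd_mul.1 h1 with h2 | h2
    · have hq := h.hq
      have key : ∀ c : ℕ, c.Prime → t ∣ c → (c = 2 ∨ c = 3) → t ∣ q ∨ t ∣ q ^ 6 - 1 := by
        intro c hc htc hc2
        have h3 := (Nat.prime_dvd_prime_iff_eq ht hc).1 htc
        subst h3
        by_cases hd : t ∣ q
        · exact Or.inl hd
        · right
          have hco : Nat.Coprime q t := ((Nat.Prime.coprime_iff_not_dvd hc).2 hd).symm
          have h5 := Nat.ModEq.pow_totient hco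
          have h6 : q ^ 6 ≡ 1 [MOD t] := by
            rcases hc2 with rfl | rfl
            · rw [Nat.totient_prime Nat.prime_two] at h5
              have := h5.pow 6
              simpa using this
            · rw [Nat.totient_prime Nat.prime_three] at h5
              have := h5.pow 3
              rw [← pow_mul] at this
              simpa using this
          exact (Nat.modEq_iff_dvd' (Nat.one_le_pow _ _ (by omega))).1 h6.symm
      rw [show 72 = 2 ^ 3 * 3 ^ 2 by norm_num] at h2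
      rcases ht.dvd_mul.1 h2 with h5 | h5
      · exact key 2 Nat.prime_two (ht.dvd_of_dvd_pow h5) (Or.inl rfl)
      · exact key 3 Nat.prime_three (ht.dvd_of_dvd_pow h5) (Or.inr rfl)
    · exact ht.dvd_mul.1 h2

end par

end Cfsg.Agent.H134.TD
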